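import Cfsg.Agent.H0.MSuz.D
import Cfsg.Agent.H0.TCSuz4.Main
import Cfsg.Agent.H0.TCSuz3.Main
import Cfsg.Agent.H0.TCSuz2.Main
import Cfsg.Agent.H0.TCSuz1.Main
import Cfsg.Agent.H0.TCSuz0.Main
set_option maxRecDepth 100000
namespace H0.MSuz
open H0 BN 
theorem rels : ∀ r ∈ B, ev R.p r = 1 := all_take_done (all_take_step (all_take_zero _ B) (rels_of_relsW R c0)) (by decide +kernel)
theorem defs_ok : DefsOK R.p defs 7 := defsOK_of_chk c1
variable {G : Type*} [Group G] (P : Pres G 7 B)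
noncomputable def m : Model G := P.model defs R rels (by decide +kernel) defs_ok R_ge
include P
theorem mR : (m P).R = R := rfl
theorem g_eq {x : ℕ} (h : x < 7) : (m P).g x = P.g x := extG_out defs P.g 7 (Or.inl h)
theorem top : gen (m P).g (lets 7) = ⊤ := (gen_extG defs P.g 7 (by decide)).trans P.top
theorem grel : ∀ r ∈ B, ev (m P).g r = 1 := rels_extG defs 7 (by decide +kernel) P.rel
theorem hi : ∀ x < 7, (m P).g x * (m P).g (inv x) = 1 := inv_of_invChk (grel P) (by decide +kernel)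
theorem upper : Finite G ∧ Nat.card G ≤ 448345497600 := card_of_top (top P) ((chain_step (σ := [[0], [1], [2], [3], [4], [5], [6]]) (n := 1782) H0.TCSuz0.main rfl rfl (rels_of_consChk (grel P) 7 inv (by decide +kernel)) (chain_step (σ := [[0], [1], [2], [3], [4], [5]]) (n := 416) H0.TCSuz1.main rfl rfl (rels_of_consChk (grel P) 7 inv (by decide +kernel)) (chain_step (σ := [[0], [1], [2], [3], [4]]) (n := 280) H0.TCSuz2.main rfl rfl (rels_of_consChk (grel P) 7 inv (by decide +kernel)) (chain_step (σ := [[0], [1], [2], [3]]) (n := 135) H0.TCSuz3.main rfl rfl (rels_of_consChk (grel P) 7 inv (by decide +kernel)) (chain_step (σ := [[0], [2], [3]]) (n := 16) H0.TCSuz4.main rfl rfl (rels_of_consChk (grel P) 7 inv (by decide +kernel)) (chain_start _)))))).imp_right fun h => h.trans (by decide +kernel))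
theorem fin : Finite G := (upper P).1
theorem card_base : Nat.card G = 448345497600 ∧ (m P).pst [426, 2, 1, 0] = ⊥ :=
  haveI := fin P
  (m P).card_done ((m P).card_step (lo := 426) (d := 180) (Model.via _ (mR P) (fun R => Model.fixW R [2, 1, 0] [[13], [14]]) c8) ((m P).inOrb_grow [0, 1, 0, 1, 0, 1, 0, 1, 1, 0, 1, 0, 1, 0, 1, 1] ((m P).inOrb_self _ 426) (Model.via _ (mR P) (fun R => Model.growW R [[13], [14]] [0, 1, 0, 1, 0, 1, 0, 1, 1, 0, 1, 0, 1, 0, 1, 1] (Nat.pow 2 426) (ival 426 180)) c9)) (Model.via _ (mR P) (fun R => Nat.ble (426 + 180) R.N) (by decide +kernel)) ((m P).card_step (lo := 2) (d := 1024) (Model.via _ (mR P) (fun R => Model.fixW R [1, 0] [[11], [12]]) c6) ((m P).inOrb_grow [0, 1, 0, 1, 0, 1, 0, 1, 0, 1, 0, 1, 0, 1, 0, 1, 0, 0] ((m P).inOrb_self _ 2) (Model.via _ (mR P) (fun R => Model.growW R [[11], [12]] [0, 1, 0, 1, 0, 1, 0, 1, 0, 1, 0, 1, 0, 1, 0, 1, 0, 0] (Nat.pow 2 2) (ival 2 1024)) c7))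 (Model.via _ (mR P) (fun R => Nat.ble (2 + 1024) R.N) (by decide +kernel)) ((m P).card_step (lo := 1) (d := 1365) (Model.via _ (mR P) (fun R => Model.fixW R [0] [[9], [10]]) c4) ((m P).inOrb_grow [0, 1, 0, 1, 0, 1, 0, 1, 0, 1, 0, 1, 0, 1, 0, 1, 0, 1, 0, 1, 1, 0] ((m P).inOrb_self _ 1) (Model.via _ (mR P) (fun R => Model.growW R [[9], [10]] [0, 1, 0, 1, 0, 1, 0, 1, 0, 1, 0, 1, 0, 1, 0, 1, 0, 1, 0, 1, 1, 0] (Nat.pow 2 1) (ival 1 1365)) c5)) (Model.via _ (mR P) (fun R => Nat.ble (1 + 1365) R.N) (by decide +kernel)) ((m P).card_step (lo := 0) (d := 1782) (Model.via _ (mR P) (fun R => Model.fixW R [] [[7], [8]]) c2) ((m P).inOrb_grow [0, 0, 0, 1, 0, 1, 0, 1, 0, 1, 0, 1, 0, 1, 0, 1, 0, 1, 0, 1, 0] ((m P).inOrb_self _ 0) (Model.via _ (mR P) (fun R => Model.growW R [[7], [8]] [0, 0, 0, 1, 0, 1, 0, 1, 0, 1, 0, 1, 0, 1, 0, 1, 0, 1, 0, 1, 0] (Nat.pow 2 0) (ival 0 1782)) c3)) (Model.via _ (mR P) (fun R => Nat.ble (0 + 1782)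 R.N) (by decide +kernel)) ((m P).card_start))))) (upper P).2 (by decide +kernel)
theorem card : Nat.card G = 448345497600 := (card_base P).1
theorem base : (m P).pst [426, 2, 1, 0] = ⊥ := (card_base P).2
theorem inj : Function.Injective (m P).φ := (m P).inj_of_base (base P)
theorem trans : (m P).orb ⊤ 0 = Set.Ico 0 (0 + 1782) :=
  (m P).orb_eq_ico' ((m P).inOrb_mono le_top ((m P).inOrb_grow [0, 0, 0, 1, 0, 1, 0, 1, 0, 1, 0, 1, 0, 1, 0, 1, 0, 1, 0, 1, 0] ((m P).inOrb_self _ 0) (Model.via _ (mR P) (fun R => Model.growW R [[7], [8]] [0, 0, 0, 1, 0, 1, 0, 1, 0, 1, 0, 1, 0, 1, 0, 1, 0, 1, 0, 1, 0] (Nat.pow 2 0) (ival 0 1782)) c10))) (top P).ge (Model.via _ (mR P) (fun R => Model.invW R [[0], [1], [2], [3], [4], [5], [6]] 0 1782) c11) (by decide)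
theorem sub1 : (m P).InOrb (gen (m P).g [[9], [10]]) 127 (ival 1 1365) := ((m P).inOrb_grow [0, 1, 0, 1, 0, 1, 0, 1, 0, 1, 0, 1, 0, 1, 0, 1, 0, 1, 1, 1, 0] ((m P).inOrb_self _ 127) (Model.via _ (mR P) (fun R => Model.growW R [[9], [10]] [0, 1, 0, 1, 0, 1, 0, 1, 0, 1, 0, 1, 0, 1, 0, 1, 0, 1, 1, 1, 0] (Nat.pow 2 127) (ival 1 1365)) c13))
theorem sub1366 : (m P).InOrb (gen (m P).g [[9], [10]]) 1507 (ival 1366 416) := ((m P).inOrb_grow [0, 1, 0, 1, 0, 1, 0, 1, 0, 1, 0, 1, 0, 1, 1, 0, 1, 0] ((m P).inOrb_self _ 1507) (Model.via _ (mR P) (fun R => Model.growW R [[9], [10]] [0, 1, 0, 1, 0, 1, 0, 1, 0, 1, 0, 1, 0, 1, 1, 0, 1, 0] (Nat.pow 2 1507) (ival 1366 416)) c16))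
theorem coatom : IsCoatom ((m P).pst [0]) := (m P).coatom (trans P) (by decide) ((m P).maxUpTo_step ((m P).maxUpTo_step ((m P).maxUpTo_one 1782) (Model.via _ (mR P) (fun R => Model.fixW R [0] [[9], [10]]) c12) (sub1 P) (Model.via _ (mR P) (fun R => Nat.ble (1 + 1365) R.N) (by decide +kernel)) (Model.via _ (mR P) (fun R => Nat.ble (0 + 1782) R.N) (by decide +kernel)) (Model.via _ (mR P) (fun R => mapsW R [7] (Nat.pow 2 0) (Nat.pow 2 127)) c14) ((m P).inOrb_grow [0, 0, 1, 2, 0, 2, 1, 0, 2, 1, 0, 2, 1, 0, 2, 0, 1] ((m P).inOrb_self _ 0) (Model.via _ (mR P) (fun R => Model.growW R [[7], [9], [10]] [0, 0, 1, 2, 0, 2, 1, 0, 2, 1, 0, 2, 1, 0, 2, 0, 1] (Nat.pow 2 0) (ival 0 1782)) c15))) (Model.via _ (mR P) (fun R => Model.fixW R [0] [[9], [10]]) c12) (sub1366 P) (Model.via _ (mR P) (fun R => Nat.ble (1366 + 416) R.N) (by decide +kernel)) (Model.via _ (mR P) (fun R => Nat.ble (0 + 1782) R.N) (by decide +kernel)) (Model.via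 _ (mR P) (fun R => mapsW R [7, 7, 8, 7, 7] (Nat.pow 2 0) (Nat.pow 2 1507)) c17) ((m P).inOrb_grow [0, 0, 2, 0, 1, 2, 0, 1, 2, 0, 1, 2, 0, 2, 0, 1, 2, 0] ((m P).inOrb_self _ 0) (Model.via _ (mR P) (fun R => Model.growW R [[7, 7, 8, 7, 7], [9], [10]] [0, 0, 2, 0, 1, 2, 0, 1, 2, 0, 1, 2, 0, 2, 0, 1, 2, 0] (Nat.pow 2 0) (ival 0 1782)) c18)))
theorem ng : ∀ N : Subgroup G, N.Normal → ev (m P).g [15] ∈ N → N = ⊤ :=
  ng_top (hi P) ngSt [15] (by decide) (all_take_done (all_take_step (all_take_zero _ ngR) ((m P).ev_one (inj P) (Model.via _ (mR P) (fun R => relsW R 0 R.lg ((ngR.drop 0).take 14)) c19))) (by decide +kernel)) (top P) (by decide)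
theorem card_stab : Nat.card ((m P).pst [0]) = 251596800 := (m P).card_stab (trans P) (by rw [card P]) (by decide)
theorem simple : IsSimpleGroup G :=
  haveI := fin P
  simple_of_coatom _ (coatom P) (fun N hN h => (m P).normal_le_stab (trans P) (base P) (by decide) N h)
    (ev (m P).g [15]) 11 (by rw [← ev_wpow]; exact (all_take_done (all_take_step (all_take_zero _ xR) ((m P).ev_one (inj P) (Model.via _ (mR P) (fun R => relsW R 0 R.lg ((xR.drop 0).take 1)) c20))) (by decide +kernel)) _ (List.mem_singleton_self _))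
    (by rw [card_stab P]; decide +kernel) (ng P)
theorem stab : (gen (m P).g subs).index = 1782 ∧ gen (m P).g subs = (m P).pst [0] :=
  (m P).stab_index ((m P).gen_le_pst (Model.via _ (mR P) (fun R => Model.fixW R [0] [[0], [1], [2], [3], [4], [5]]) c21)) (top P ▸ chain_index (σ := lets 7) H0.TCSuz0.main rfl rfl (rels_of_consChk (grel P) 7 inv (by decide +kernel))) (trans P)
theorem gsubs : gen (m P).g subs = gen P.g subs := gen_extG defs P.g 7 (by decide +kernel)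
theorem so1 : (m P).orb (gen (m P).g subs) ((m P).φ (ev (m P).g [7]) 0) = Set.Ico 1 (1 + 1365) := by
  rw [(m P).apply_w (Model.via _ (mR P) (fun R => Nat.ble (Nat.succ 0) R.N) (by decide +kernel)) (Model.via _ (mR P) (fun R => mapsW R [7] (Nat.pow 2 0) (Nat.pow 2 127)) c14)]
  exact (m P).orb_eq_ico' ((m P).inOrb_mono (((m P).gen_le_pst (Model.via _ (mR P) (fun R => Model.fixW R [0] [[9], [10]]) c12)).trans (stab P).2.ge) (sub1 P)) le_rfl (Model.via _ (mR P) (fun R => Model.invW R [[0], [1], [2], [3], [4], [5]] 1 1365) c22) (by decide)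
theorem co1 : ∃ q : G ⧸ gen (m P).g subs, (MulAction.orbit (gen (m P).g subs) q).ncard = 1365 :=
  ⟨_, ((m P).ncard_orbit_coset (stab P).2 _ _).1.trans (by rw [so1 P, Model.ncard_ico])⟩
theorem so1366 : (m P).orb (gen (m P).g subs) ((m P).φ (ev (m P).g [7, 7, 8, 7, 7]) 0) = Set.Ico 1366 (1366 + 416) := by
  rw [(m P).apply_w (Model.via _ (mR P) (fun R => Nat.ble (Nat.succ 0) R.N) (by decide +kernel)) (Model.via _ (mR P) (fun R => mapsW R [7, 7, 8, 7, 7] (Nat.pow 2 0) (Nat.pow 2 1507)) c17)]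
  exact (m P).orb_eq_ico' ((m P).inOrb_mono (((m P).gen_le_pst (Model.via _ (mR P) (fun R => Model.fixW R [0] [[9], [10]]) c12)).trans (stab P).2.ge) (sub1366 P)) le_rfl (Model.via _ (mR P) (fun R => Model.invW R [[0], [1], [2], [3], [4], [5]] 1366 416) c23) (by decide)
theorem co1366 : ∃ q : G ⧸ gen (m P).g subs, (MulAction.orbit (gen (m P).g subs) q).ncard = 416 :=
  ⟨_, ((m P).ncard_orbit_coset (stab P).2 _ _).1.trans (by rw [so1366 P, Model.ncard_ico])⟩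
end H0.MSuz
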